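import Groth.Agent.RDer.K887.SESMap
import Groth.Agent.EtpbcB.Horseshoe

/-! The horseshoe resolution as a `SESRes`, and the long exact sequence computed from a resolution. -/

set_option autoImplicit false
set_option backward.isDefEq.respectTransparency false
universe v u v' u'

open CategoryTheory CategoryTheory.Limits CategoryTheory.Category

namespace K887.LES

open Groth.Agent.EtpbcB.Horseshoe K887.SESMap

variable {C : Type u} [Category.{v} C] [Abelian C]

/-- The horseshoe lemma. -/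
noncomputable def horseshoe {S : ShortComplex C} (hS : S.ShortExact)
    (I₁ : InjectiveResolution S.X₁) (I₃ : InjectiveResolution S.X₃) : RDer.SESRes S where
  I₁ := I₁
  I₂ := midRes hS I₁ I₃
  I₃ := I₃
  f := (sc hS I₁ I₃).f
  g := (sc hS I₁ I₃).g
  zero := (sc hS I₁ I₃).zero
  ι_f := by
    refine HomologicalComplex.from_single_hom_ext ?_
    have h : (midRes hS I₁ I₃).ι.f 0 = aug hS I₁ I₃ := resOf_ι_f_zero _ _ _ _ _ _ _
    rw [HomologicalComplex.comp_f, HomologicalComplex.comp_f, h,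
      CochainComplex.single₀_map_f_zero]
    change I₁.ι.f 0 ≫ biprod.inl = S.f ≫ biprod.lift _ _
    apply biprod.hom_ext
    · simp
    · simp
  ι_g := by
    refine HomologicalComplex.from_single_hom_ext ?_
    have h : (midRes hS I₁ I₃).ι.f 0 = aug hS I₁ I₃ := resOf_ι_f_zero _ _ _ _ _ _ _
    rw [HomologicalComplex.comp_f, HomologicalComplex.comp_f, h,
      CochainComplex.single₀_map_f_zero]
    change biprod.lift _ _ ≫ biprod.snd = S.g ≫ I₃.ι.f 0
    simp
  shortExact := sc_shortExact hS I₁ I₃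

variable [HasInjectiveResolutions C] {D : Type u'} [Category.{v'} D] [Abelian D]
  (F : C ⥤ D) [F.Additive]

/-- A chosen injective resolution of a short exact sequence. -/
noncomputable def res {S : ShortComplex C} (hS : S.ShortExact) : RDer.SESRes S :=
  horseshoe hS (injectiveResolution S.X₁) (injectiveResolution S.X₃)

section

variable {S : ShortComplex C} (T : RDer.SESRes S)

/-- The short exact sequence of complexes computing the derived functors. -/
noncomputable abbrev mcx : ShortComplex (CochainComplex D ℕ) :=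
  T.cx.map (F.mapHomologicalComplex (ComplexShape.up ℕ))

/-- Comparison of the first term. -/
noncomputable def e₁ (n : ℕ) : (F.rightDerived n).obj S.X₁ ≅ (mcx F T).X₁.homology n :=
  T.I₁.isoRightDerivedObj F n

/-- Comparison of the middle term. -/
noncomputable def e₂ (n : ℕ) : (F.rightDerived n).obj S.X₂ ≅ (mcx F T).X₂.homology n :=
  T.I₂.isoRightDerivedObj F n

/-- Comparison of the third term. -/
noncomputable def e₃ (n : ℕ) : (F.rightDerived n).obj S.X₃ ≅ (mcx F T).X₃.homology n :=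
  T.I₃.isoRightDerivedObj F n

lemma e₁_f (n : ℕ) : (F.rightDerived n).map S.f ≫ (e₂ F T n).hom =
    (e₁ F T n).hom ≫ HomologicalComplex.homologyMap (mcx F T).f n :=
  InjectiveResolution.isoRightDerivedObj_hom_naturality S.f T.I₁ T.I₂ T.f
    (ι_f_zero_comm T.ι_f) F n

lemma e₂_g (n : ℕ) : (F.rightDerived n).map S.g ≫ (e₃ F T n).hom =
    (e₂ F T n).hom ≫ HomologicalComplex.homologyMap (mcx F T).g n :=
  InjectiveResolution.isoRightDerivedObj_hom_naturality S.g T.I₂ T.I₃ T.g
    (ι_f_zero_comm T.ι_g) F n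

lemma delta_eq (n₀ n₁ : ℕ) (h : n₀ + 1 = n₁) : T.delta F n₀ n₁ h =
    (e₃ F T n₀).hom ≫ (T.map_shortExact F).δ n₀ n₁ h ≫ (e₁ F T n₁).inv := rfl

lemma delta_e₁ (n₀ n₁ : ℕ) (h : n₀ + 1 = n₁) : T.delta F n₀ n₁ h ≫ (e₁ F T n₁).hom =
    (e₃ F T n₀).hom ≫ (T.map_shortExact F).δ n₀ n₁ h := by
  rw [delta_eq, Category.assoc, Category.assoc, Iso.inv_hom_id, Category.comp_id]

lemma delta_comp (n₀ n₁ : ℕ) (h : n₀ + 1 = n₁) :
    T.delta F n₀ n₁ h ≫ (F.rightDerived n₁).map S.f = 0 := by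
  rw [← cancel_mono (e₂ F T n₁).hom, Category.assoc, e₁_f, ← Category.assoc, delta_e₁,
    Category.assoc, ShortComplex.ShortExact.δ_comp, comp_zero, zero_comp]

lemma comp_delta (n₀ n₁ : ℕ) (h : n₀ + 1 = n₁) :
    (F.rightDerived n₀).map S.g ≫ T.delta F n₀ n₁ h = 0 := by
  have h1 := (T.map_shortExact F).comp_δ n₀ n₁ h
  rw [delta_eq, ← Category.assoc, e₂_g, Category.assoc, reassoc_of% h1, zero_comp, comp_zero]

lemma exact₁ (n₀ n₁ : ℕ) (h : n₀ + 1 = n₁) :
    (ShortComplex.mk _ _ (delta_comp F T n₀ n₁ h)).Exact := by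
  refine (ShortComplex.exact_iff_of_iso (ShortComplex.isoMk (e₃ F T n₀) (e₁ F T n₁)
    (e₂ F T n₁) ?_ ?_)).2 ((T.map_shortExact F).homology_exact₁ n₀ n₁ h)
  · exact (delta_e₁ F T n₀ n₁ h).symm
  · exact (e₁_f F T n₁).symm

include T in
lemma exact₂ (n : ℕ) : (ShortComplex.mk ((F.rightDerived n).map S.f) ((F.rightDerived n).map S.g)
      (by rw [← Functor.map_comp, S.zero, Functor.map_zero])).Exact := by
  refine (ShortComplex.exact_iff_of_iso (ShortComplex.isoMk (e₁ F T n) (e₂ F T n)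
    (e₃ F T n) ?_ ?_)).2 ((T.map_shortExact F).homology_exact₂ n)
  · exact (e₁_f F T n).symm
  · exact (e₂_g F T n).symm

lemma exact₃ (n₀ n₁ : ℕ) (h : n₀ + 1 = n₁) :
    (ShortComplex.mk _ _ (comp_delta F T n₀ n₁ h)).Exact := by
  refine (ShortComplex.exact_iff_of_iso (ShortComplex.isoMk (e₂ F T n₀) (e₃ F T n₀)
    (e₁ F T n₁) ?_ ?_)).2 ((T.map_shortExact F).homology_exact₃ n₀ n₁ h)
  · exact (e₂_g F T n₀).symm
  · exact (delta_e₁ F T n₀ n₁ h).symm

end

/-- The connecting morphisms of the right derived functors. -/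
noncomputable def derivedLES : RDer.DerivedLES F where
  δ S hS n₀ n₁ h := (res hS).delta F n₀ n₁ h
  δ_eq S hS T n₀ n₁ h := delta_eq_delta F _ _ n₀ n₁ h
  δ_natural hS hS' φ n₀ n₁ h := delta_natural F φ _ _ n₀ n₁ h
  exact₂ S hS n := exact₂ F (res hS) n
  comp_δ S hS n₀ n₁ h := comp_delta F _ n₀ n₁ h
  exact₃ S hS n₀ n₁ h := exact₃ F _ n₀ n₁ h
  δ_comp S hS n₀ n₁ h := delta_comp F _ n₀ n₁ h
  exact₁ S hS n₀ n₁ h := exact₁ F _ n₀ n₁ h

end K887.LES
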