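import Groth.Prelude.Def_RDerDelta
import Mathlib.Algebra.Homology.HomologySequenceLemmas

/-! Morphisms between injective resolutions of short exact sequences, and naturality of the
connecting morphisms computed from them. -/

set_option autoImplicit false
set_option backward.isDefEq.respectTransparency false
universe v u v' u'

open CategoryTheory CategoryTheory.Limits CategoryTheory.Category

namespace K887.SESMap

variable {C : Type u} [Category.{v} C] [Abelian C]

/-- A null homotopic map out of a complex concentrated in degree `0` vanishes. -/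
lemma nullHomotopicMap_single₀ {X : C} {K : CochainComplex C ℕ}
    (hom : ∀ i j, ((CochainComplex.single₀ C).obj X).X i ⟶ K.X j) :
    Homotopy.nullHomotopicMap hom = 0 := by
  refine HomologicalComplex.from_single_hom_ext ?_
  simp [Homotopy.nullHomotopicMap, prevD, dNext]

section

variable {S : ShortComplex C} (T : RDer.SESRes S)

include T in
/-- The last map of a short complex having an injective resolution is an epimorphism. -/
lemma epi_g : Epi S.g := by
  have h1 := T.shortExact.homology_exact₃ 0 1 (by simp)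
  have h2 : IsZero (T.I₁.cocomplex.homology 1) :=
    (T.I₁.cocomplex_exactAt_succ 0).isZero_homology
  have h3 : Epi (HomologicalComplex.homologyMap T.g 0) :=
    h1.epi_f (h2.eq_of_tgt _ _)
  have h4 : HomologicalComplex.homologyMap ((CochainComplex.single₀ C).map S.g) 0 ≫
      HomologicalComplex.homologyMap T.I₃.ι 0 =
      HomologicalComplex.homologyMap T.I₂.ι 0 ≫ HomologicalComplex.homologyMap T.g 0 := by
    rw [← HomologicalComplex.homologyMap_comp, ← HomologicalComplex.homologyMap_comp, T.ι_g]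
  have h5 : Epi (HomologicalComplex.homologyMap ((CochainComplex.single₀ C).map S.g) 0) := by
    have h6 : Epi (HomologicalComplex.homologyMap ((CochainComplex.single₀ C).map S.g) 0 ≫
      HomologicalComplex.homologyMap T.I₃.ι 0) := by
      rw [h4]
      infer_instance
    have h7 : HomologicalComplex.homologyMap ((CochainComplex.single₀ C).map S.g) 0 =
        (HomologicalComplex.homologyMap ((CochainComplex.single₀ C).map S.g) 0 ≫
          HomologicalComplex.homologyMap T.I₃.ι 0) ≫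
          inv (HomologicalComplex.homologyMap T.I₃.ι 0) := by simp
    rw [h7]
    infer_instance
  have h8 := HomologicalComplex.singleObjHomologySelfIso_hom_naturality (ComplexShape.up ℕ) 0 S.g
  have h9 : Epi ((HomologicalComplex.singleObjHomologySelfIso (ComplexShape.up ℕ) 0 S.X₂).hom ≫ S.g) := by
    rw [← h8]
    infer_instance
  exact epi_of_epi (HomologicalComplex.singleObjHomologySelfIso (ComplexShape.up ℕ) 0 S.X₂).hom S.g

end

instance single₀_epi {X Y : C} (f : X ⟶ Y) [Epi f] : Epi ((CochainComplex.single₀ C).map f) := by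
  refine ⟨fun g h w => HomologicalComplex.from_single_hom_ext ?_⟩
  have h1 := HomologicalComplex.congr_hom w 0
  simp only [HomologicalComplex.comp_f, CochainComplex.single₀_map_f_zero] at h1
  exact (cancel_epi f).mp h1

section

variable {S S' : ShortComplex C} (φ : S ⟶ S') (T : RDer.SESRes S) (T' : RDer.SESRes S')

/-- A morphism of short exact sequences lifts to injective resolutions of them. -/
theorem exists_map : ∃ α : T.cx ⟶ T'.cx,
    T.I₁.ι ≫ α.τ₁ = (CochainComplex.single₀ C).map φ.τ₁ ≫ T'.I₁.ι ∧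
    T.I₂.ι ≫ α.τ₂ = (CochainComplex.single₀ C).map φ.τ₂ ≫ T'.I₂.ι ∧
    T.I₃.ι ≫ α.τ₃ = (CochainComplex.single₀ C).map φ.τ₃ ≫ T'.I₃.ι := by
  let f₁ : T.I₁.cocomplex ⟶ T'.I₁.cocomplex := InjectiveResolution.desc φ.τ₁ T'.I₁ T.I₁
  have hf₁ : T.I₁.ι ≫ f₁ = (CochainComplex.single₀ C).map φ.τ₁ ≫ T'.I₁.ι :=
    InjectiveResolution.desc_commutes _ _ _
  let g₂ : T.I₂.cocomplex ⟶ T'.I₂.cocomplex := InjectiveResolution.desc φ.τ₂ T'.I₂ T.I₂
  have hg₂ : T.I₂.ι ≫ g₂ = (CochainComplex.single₀ C).map φ.τ₂ ≫ T'.I₂.ι :=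
    InjectiveResolution.desc_commutes _ _ _
  let H : Homotopy (T.f ≫ g₂) (f₁ ≫ T'.f) :=
    InjectiveResolution.descHomotopy (S.f ≫ φ.τ₂) _ _
      (by rw [reassoc_of% T.ι_f, hg₂, Functor.map_comp, Category.assoc])
      (by rw [reassoc_of% hf₁, T'.ι_f, ← φ.comm₁₂, Functor.map_comp, Category.assoc])
  have hH : T.f ≫ g₂ = Homotopy.nullHomotopicMap H.hom + f₁ ≫ T'.f := by
    ext i
    rw [H.comm i, HomologicalComplex.add_f_apply]
    rfl
  let h' : ∀ i j, T.I₂.cocomplex.X i ⟶ T'.I₂.cocomplex.X j := fun i j =>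
    (T.splitting i).r ≫ H.hom i j
  have hh' : ∀ i j, T.f.f i ≫ h' i j = H.hom i j := fun i j => by
    have h1 : T.f.f i ≫ (T.splitting i).r = 𝟙 _ := (T.splitting i).f_r
    change T.f.f i ≫ (T.splitting i).r ≫ H.hom i j = _
    rw [reassoc_of% h1]
  have hcomp : T.f ≫ Homotopy.nullHomotopicMap h' = Homotopy.nullHomotopicMap H.hom := by
    rw [Homotopy.comp_nullHomotopicMap]
    congr 1
    funext i j
    exact hh' i j
  let f₂ : T.I₂.cocomplex ⟶ T'.I₂.cocomplex := g₂ - Homotopy.nullHomotopicMap h'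
  have hff : T.f ≫ f₂ = f₁ ≫ T'.f := by
    rw [Preadditive.comp_sub, hcomp]
    exact sub_eq_iff_eq_add'.mpr hH
  have hf₂ : T.I₂.ι ≫ f₂ = (CochainComplex.single₀ C).map φ.τ₂ ≫ T'.I₂.ι := by
    rw [Preadditive.comp_sub, hg₂, Homotopy.comp_nullHomotopicMap, nullHomotopicMap_single₀, sub_zero]
  have : Epi T.cx.g := T.shortExact.epi_g
  let f₃ : T.I₃.cocomplex ⟶ T'.I₃.cocomplex := T.shortExact.exact.desc (f₂ ≫ T'.g) (by
    change T.f ≫ f₂ ≫ T'.g = 0
    rw [reassoc_of% hff, T'.zero, comp_zero])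
  have hgg : T.g ≫ f₃ = f₂ ≫ T'.g := T.shortExact.exact.g_desc _ _
  refine ⟨{ τ₁ := f₁, τ₂ := f₂, τ₃ := f₃, comm₁₂ := hff.symm, comm₂₃ := hgg.symm }, hf₁, hf₂, ?_⟩
  have := epi_g T
  change T.I₃.ι ≫ f₃ = _
  rw [← cancel_epi ((CochainComplex.single₀ C).map S.g), ← reassoc_of% T.ι_g, hgg,
    reassoc_of% hf₂, T'.ι_g, ← Functor.map_comp_assoc, ← Functor.map_comp_assoc, φ.comm₂₃]

end

section Delta

variable [HasInjectiveResolutions C] {D : Type u'} [Category.{v'} D] [Abelian D]
  (F : C ⥤ D) [F.Additive]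

omit [HasInjectiveResolutions C] in
lemma ι_f_zero_comm {X Y : C} {f : X ⟶ Y} {I : InjectiveResolution X} {J : InjectiveResolution Y}
    {φ : I.cocomplex ⟶ J.cocomplex} (h : I.ι ≫ φ = (CochainComplex.single₀ C).map f ≫ J.ι) :
    I.ι.f 0 ≫ φ.f 0 = f ≫ J.ι.f 0 := by
  have h1 := HomologicalComplex.congr_hom h 0
  simpa using h1

/-- Naturality of the connecting morphisms computed from injective resolutions. -/
theorem delta_natural {S S' : ShortComplex C} (φ : S ⟶ S') (T : RDer.SESRes S)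
    (T' : RDer.SESRes S') (n₀ n₁ : ℕ) (h : n₀ + 1 = n₁) :
    (F.rightDerived n₀).map φ.τ₃ ≫ T'.delta F n₀ n₁ h =
      T.delta F n₀ n₁ h ≫ (F.rightDerived n₁).map φ.τ₁ := by
  obtain ⟨α, h₁, -, h₃⟩ := exists_map φ T T'
  have e₃ := InjectiveResolution.isoRightDerivedObj_hom_naturality φ.τ₃ T.I₃ T'.I₃ α.τ₃
    (ι_f_zero_comm h₃) F n₀
  have e₁ := InjectiveResolution.isoRightDerivedObj_hom_naturality φ.τ₁ T.I₁ T'.I₁ α.τ₁
    (ι_f_zero_comm h₁) F n₁
  have hδ := HomologicalComplex.HomologySequence.δ_naturality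
    ((F.mapHomologicalComplex (ComplexShape.up ℕ)).mapShortComplex.map α)
    (T.map_shortExact F) (T'.map_shortExact F) n₀ n₁ h
  rw [← cancel_mono (T'.I₁.isoRightDerivedObj F n₁).hom]
  simp only [Category.assoc]
  erw [RDer.SESRes.delta_comp_isoRightDerivedObj_hom, e₁]
  erw [RDer.SESRes.delta_comp_isoRightDerivedObj_hom_assoc]
  rw [reassoc_of% e₃]
  rw [Category.assoc]
  exact congrArg (fun z => (T.I₃.isoRightDerivedObj F n₀).hom ≫ z) hδ.symm

theorem delta_eq_delta {S : ShortComplex C} (T T' : RDer.SESRes S) (n₀ n₁ : ℕ) (h : n₀ + 1 = n₁) :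
    T.delta F n₀ n₁ h = T'.delta F n₀ n₁ h := by
  have h1 := delta_natural F (𝟙 S) T T' n₀ n₁ h
  simpa using h1.symm

end Delta

end K887.SESMap
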